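import Groth.Agent.Neron.K949.GreReg
import Groth.Agent.S0536
import Groth.Agent.S0528
import Mathlib.RingTheory.FinitePresentation
import Mathlib.Order.Filter.AtTopBot.Basic

/-!
# Greenberg's theorem for excellent henselian discrete valuation rings (any characteristic)
-/

universe u

open Filter IsLocalRing

namespace K949.Gre

section Los

variable (U : Ultrafilter ℕ) {R : Type u} [CommRing R] [IsDomain R] [IsDiscreteValuationRing R]

theorem mk_eq_mk_iff {f g : ℕ → R} : (Ideal.Quotient.mk (J U R) f = Ideal.Quotient.mk (J U R) g) ↔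
    ∀ m : ℕ, ∀ᶠ n in (U : Filter ℕ), f n - g n ∈ maximalIdeal R ^ m := by
  rw [Ideal.Quotient.mk_eq_mk_iff_sub_mem, mem_J]
  rfl

/-- A point of a finitely presented algebra in the ultraproduct ring gives points modulo `𝔪 ^ r`. -/
theorem los {C : Type u} [CommRing C] [Algebra R C] [Algebra.FinitePresentation R C] (h : C →ₐ[R] S U R)
    (c : C → ℕ → R) (hc : ∀ x, Ideal.Quotient.mk (J U R) (c x) = h x) (r : ℕ) (F : Finset C) :
    ∀ᶠ n in (U : Filter ℕ), ∃ g : C →ₐ[R] R ⧸ maximalIdeal R ^ r, ∀ x ∈ F, g x = Ideal.Quotient.mk _ (c x n) := by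
  obtain ⟨k, f, hf, s, hs⟩ := ‹Algebra.FinitePresentation R C›
  let G : MvPolynomial (Fin k) R →ₐ[R] (ℕ → R) := MvPolynomial.aeval (fun i => c (f (MvPolynomial.X i)))
  have hG : ∀ p, Ideal.Quotient.mk (J U R) (G p) = h (f p) := by
    intro p
    have : (Ideal.Quotient.mkₐ R (J U R)).comp G = h.comp f := by
      ext i
      simp [G, hc]
    exact DFunLike.congr_fun this p
  choose p hp using hf
  have h1 : ∀ᶠ n in (U : Filter ℕ), ∀ q ∈ s, G q n ∈ maximalIdeal R ^ r := by
    rw [Filter.eventually_all_finset]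
    intro q hq
    have h2 : f q = 0 := by
      rw [← RingHom.mem_ker]
      show q ∈ RingHom.ker f.toRingHom
      rw [← hs]
      exact Ideal.subset_span hq
    have h3 := hG q
    rw [h2, map_zero, Ideal.Quotient.eq_zero_iff_mem, mem_J] at h3
    exact h3 r
  have h2 : ∀ᶠ n in (U : Filter ℕ), ∀ x ∈ F, G (p x) n - c x n ∈ maximalIdeal R ^ r := by
    rw [Filter.eventually_all_finset]
    intro x _
    have h3 : Ideal.Quotient.mk (J U R) (G (p x)) = Ideal.Quotient.mk (J U R) (c x) := by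
      rw [hG, hp, hc]
    exact (mk_eq_mk_iff U).mp h3 r
  filter_upwards [h1, h2] with n h3 h4
  let e : MvPolynomial (Fin k) R →ₐ[R] R ⧸ maximalIdeal R ^ r :=
    (Ideal.Quotient.mkₐ R _).comp ((Pi.evalAlgHom R (fun _ : ℕ => R) n).comp G)
  have he : ∀ a : MvPolynomial (Fin k) R, a ∈ RingHom.ker f.toRingHom → e a = 0 := by
    intro a ha
    rw [← hs] at ha
    have : Ideal.span (s : Set (MvPolynomial (Fin k) R)) ≤ RingHom.ker e.toRingHom := by
      rw [Ideal.span_le]
      intro q hq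
      exact Ideal.Quotient.eq_zero_iff_mem.mpr (h3 q hq)
    exact this ha
  refine ⟨(Ideal.Quotient.liftₐ (RingHom.ker f.toRingHom) e he).comp
    (Ideal.quotientKerAlgEquivOfSurjective (f := f) (fun x => ⟨p x, hp x⟩)).symm.toAlgHom, ?_⟩
  intro x hx
  have h5 : (Ideal.quotientKerAlgEquivOfSurjective (f := f) (fun x => ⟨p x, hp x⟩)).symm x =
      Ideal.Quotient.mk _ (p x) := by
    rw [AlgEquiv.symm_apply_eq]
    exact (hp x).symm
  show Ideal.Quotient.liftₐ (RingHom.ker f.toRingHom) e he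
    ((Ideal.quotientKerAlgEquivOfSurjective (f := f) (fun x => ⟨p x, hp x⟩)).symm x) = _
  rw [h5]
  show Ideal.Quotient.mk _ (G (p x) n) = _
  rw [Ideal.Quotient.mk_eq_mk_iff_sub_mem]
  exact h4 x hx

/-- Points modulo higher and higher powers give a point of the ultraproduct ring. -/
noncomputable def limPt (hU : (U : Filter ℕ) ≤ atTop) {B : Type u} [CommRing B] [Algebra R B] (r : ℕ)
    (φ : ∀ n : ℕ, B →ₐ[R] R ⧸ maximalIdeal R ^ (n + r)) : B →ₐ[R] S U R :=
  have key : ∀ f g : ℕ → R, (∀ n, Ideal.Quotient.mk (maximalIdeal R ^ (n + r)) (f n) = Ideal.Quotient.mk _ (g n)) →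
      Ideal.Quotient.mk (J U R) f = Ideal.Quotient.mk (J U R) g := by
    intro f g h
    rw [mk_eq_mk_iff]
    intro m
    filter_upwards [hU (eventually_ge_atTop m)] with n hn
    exact Ideal.pow_le_pow_right (by omega) (Ideal.Quotient.mk_eq_mk_iff_sub_mem _ _ |>.mp (h n))
  { toFun := fun b => Ideal.Quotient.mk (J U R) fun n => Quotient.out (φ n b)
    map_one' := by
      rw [← map_one (Ideal.Quotient.mk (J U R))]
      refine key _ _ fun n => ?_
      rw [Ideal.Quotient.mk_out, map_one]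
      simp
    map_mul' := fun x y => by
      rw [← map_mul (Ideal.Quotient.mk (J U R))]
      refine key _ _ fun n => ?_
      rw [Ideal.Quotient.mk_out, map_mul]
      simp [Ideal.Quotient.mk_out]
    map_zero' := by
      rw [← map_zero (Ideal.Quotient.mk (J U R))]
      refine key _ _ fun n => ?_
      rw [Ideal.Quotient.mk_out, map_zero]
      simp
    map_add' := fun x y => by
      rw [← map_add (Ideal.Quotient.mk (J U R))]
      refine key _ _ fun n => ?_
      rw [Ideal.Quotient.mk_out, map_add]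
      simp [Ideal.Quotient.mk_out]
    commutes' := fun a => by
      rw [algebraMap_eq]
      refine key _ _ fun n => ?_
      rw [Ideal.Quotient.mk_out, AlgHom.commutes]
      rfl }

end Los

variable {R : Type u} [CommRing R] [IsDomain R] [IsDiscreteValuationRing R] [HenselianLocalRing R]

/-- **Greenberg's theorem**, strong form, over a henselian discrete valuation ring which is a G-ring: for an algebra `B` of
finite type and `r`, every `B`-point modulo `𝔪 ^ N` (`N` large) is congruent modulo `𝔪 ^ r` to a point in `R`. -/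
theorem strong (hR : CAlg.IsGRing R) (B : Type u) [CommRing B] [Algebra R B] [Algebra.FiniteType R B] (r : ℕ) :
    ∃ N, r ≤ N ∧ ∀ φ : B →ₐ[R] R ⧸ maximalIdeal R ^ N, ∃ ψ : B →ₐ[R] R,
      ∀ (b : B) (a : R), Ideal.Quotient.mk (maximalIdeal R ^ N) a = φ b → ψ b - a ∈ maximalIdeal R ^ r := by
  by_contra hcon
  push Not at hcon
  have hcon' : ∀ n : ℕ, ∃ φ : B →ₐ[R] R ⧸ maximalIdeal R ^ (n + r), ∀ ψ : B →ₐ[R] R,
      ∃ (b : B) (a : R), Ideal.Quotient.mk (maximalIdeal R ^ (n + r)) a = φ b ∧ ψ b - a ∉ maximalIdeal R ^ r :=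
    fun n => hcon (n + r) (by omega)
  choose φ hφ using hcon'
  let U : Ultrafilter ℕ := Filter.hyperfilter ℕ
  have hU : (U : Filter ℕ) ≤ atTop := Nat.hyperfilter_le_atTop
  have : Algebra.FinitePresentation R B := Algebra.FinitePresentation.of_finiteType.mp ‹_›
  obtain ⟨C, _, _, _, g, h, hgh⟩ := Groth.Agent.S0595.result R (S U R) (isRegularHom U R hR) B (limPt U hU r φ)
  have hfp : Algebra.FinitePresentation R C := inferInstance
  obtain ⟨t, ht⟩ := (‹Algebra.FiniteType R B›).out
  classical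
  have hc : ∀ x, Ideal.Quotient.mk (J U R) (Quotient.out (h x)) = h x := fun x => by rw [Ideal.Quotient.mk_out]
  have h1 := los U h (fun x => Quotient.out (h x)) hc (r + 1) (t.image g)
  have h2 : ∀ᶠ n in (U : Filter ℕ), ∀ b ∈ t,
      (Quotient.out (h (g b)) : ℕ → R) n - Quotient.out (φ n b) ∈ maximalIdeal R ^ r := by
    rw [Filter.eventually_all_finset]
    intro b _
    have h3 : Ideal.Quotient.mk (J U R) (Quotient.out (h (g b))) =
        Ideal.Quotient.mk (J U R) (fun n => Quotient.out (φ n b)) := by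
      rw [hc]
      exact DFunLike.congr_fun hgh b
    exact (mk_eq_mk_iff U).mp h3 r
  obtain ⟨n, ⟨σ, hσ⟩, h4⟩ := (h1.and h2).exists
  have hle : maximalIdeal R ^ (r + 1) ≤ maximalIdeal R := Ideal.pow_le_self (Nat.succ_ne_zero r)
  have : HenselianRing R (maximalIdeal R) := inferInstance
  have : HenselianRing R (maximalIdeal R ^ (r + 1)) := ((Groth.Agent.S0528.result R _ _ hle).1 this).1
  obtain ⟨τ, hτ⟩ := Groth.Agent.S0536.result R C R (maximalIdeal R ^ (r + 1)) σ
  obtain ⟨b, a, hab, hba⟩ := hφ n (τ.comp g)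
  have hle2 : maximalIdeal R ^ (n + r) ≤ maximalIdeal R ^ r := Ideal.pow_le_pow_right (by omega)
  apply hba
  have hEq : (Ideal.Quotient.mkₐ R (maximalIdeal R ^ r)).comp (τ.comp g) =
      (Ideal.Quotient.factorₐ R hle2).comp (φ n) := by
    apply AlgHom.ext_of_adjoin_eq_top ht
    intro b hb
    have h5 : Ideal.Quotient.mk (maximalIdeal R ^ (r + 1)) (τ (g b)) =
        Ideal.Quotient.mk _ ((Quotient.out (h (g b)) : ℕ → R) n) := by
      rw [← hσ (g b) (Finset.mem_image_of_mem g hb), ← hτ]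
      rfl
    rw [Ideal.Quotient.mk_eq_mk_iff_sub_mem] at h5
    have h6 := Ideal.add_mem _ (Ideal.pow_le_pow_right (by omega : r ≤ r + 1) h5) (h4 b hb)
    rw [sub_add_sub_cancel] at h6
    show Ideal.Quotient.mk (maximalIdeal R ^ r) (τ (g b)) = Ideal.Quotient.factor hle2 (φ n b)
    rw [← Ideal.Quotient.mk_out (φ n b), Ideal.Quotient.factor_mk, Ideal.Quotient.mk_eq_mk_iff_sub_mem]
    exact h6
  have h7 := DFunLike.congr_fun hEq b
  have h8 : Ideal.Quotient.mk (maximalIdeal R ^ r) (τ (g b)) = Ideal.Quotient.mk (maximalIdeal R ^ r) a := by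
    rw [show Ideal.Quotient.mk (maximalIdeal R ^ r) (τ (g b)) = _ from h7]
    show Ideal.Quotient.factor hle2 (φ n b) = _
    rw [← hab, Ideal.Quotient.factor_mk]
  exact (Ideal.Quotient.mk_eq_mk_iff_sub_mem _ _).mp h8

/-- **Greenberg's theorem**, existence form. -/
theorem exists_hom (hR : CAlg.IsGRing R) (B : Type u) [CommRing B] [Algebra R B] [Algebra.FiniteType R B]
    (h : ∀ m : ℕ, Nonempty (B →ₐ[R] R ⧸ maximalIdeal R ^ m)) : Nonempty (B →ₐ[R] R) := by
  obtain ⟨N, -, hN⟩ := strong hR B 0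
  obtain ⟨φ⟩ := h N
  exact ⟨(hN φ).choose⟩

end K949.Gre
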