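import Groth.Agent.Neron.K949.GreRing
import Groth.Agent.S17703
import Groth.Agent.S2038
import Groth.Agent.S9314
import Groth.Agent.S0600
import Groth.Agent.S0595

/-!
# The ultraproduct discrete valuation ring is regular over an excellent discrete valuation ring
-/

universe u

open Filter IsLocalRing TensorProduct

namespace K949.Gre

variable (U : Ultrafilter ℕ) (R : Type u) [CommRing R] [IsDomain R] [IsDiscreteValuationRing R]

/-- The map to the ultrapower of the residue field. -/
noncomputable def toP : S U R →ₐ[R] P U (maximalIdeal R).ResidueField :=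
  Ideal.quotientMapₐ (Z U (maximalIdeal R).ResidueField)
    (AlgHom.pi (R := R) (A := fun _ : ℕ => (maximalIdeal R).ResidueField)
      (fun n => (Algebra.ofId R (maximalIdeal R).ResidueField).comp (Pi.evalAlgHom R (fun _ : ℕ => R) n)))
    (by
      intro f hf
      rw [mem_J] at hf
      show ∀ᶠ n in (U : Filter ℕ), algebraMap R (maximalIdeal R).ResidueField (f n) = 0
      filter_upwards [hf 1] with n hn
      rw [pow_one] at hn
      exact Ideal.algebraMap_residueField_eq_zero.mpr hn)

variable {R} in
theorem toP_mk (f : ℕ → R) : toP U R (Ideal.Quotient.mk _ f) =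
    Ideal.Quotient.mk _ (fun n => algebraMap R (maximalIdeal R).ResidueField (f n)) := rfl

theorem toP_eq_zero {x : S U R} (hx : toP U R x = 0) : x ∈ maximalIdeal (S U R) := by
  obtain ⟨f, rfl⟩ := Ideal.Quotient.mk_surjective x
  rw [toP_mk, Ideal.Quotient.eq_zero_iff_mem, mem_Z] at hx
  rw [mem_maximalIdeal_iff]
  filter_upwards [hx] with n hn
  exact Ideal.algebraMap_residueField_eq_zero.mp hn

/-- The fibre of the ultraproduct ring in the ultrapower of the residue field. -/
noncomputable def fibP : (maximalIdeal R).ResidueField ⊗[R] S U R →ₐ[(maximalIdeal R).ResidueField]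
    P U (maximalIdeal R).ResidueField :=
  Algebra.TensorProduct.lift (Algebra.ofId _ _) (toP U R) (fun _ _ => Commute.all _ _)

theorem exists_one_tmul (x : (maximalIdeal R).ResidueField ⊗[R] S U R) : ∃ y : S U R, x = 1 ⊗ₜ y := by
  induction x with
  | zero => exact ⟨0, by simp⟩
  | tmul a y =>
    obtain ⟨r, rfl⟩ := Ideal.algebraMap_residueField_surjective (maximalIdeal R) a
    refine ⟨r • y, ?_⟩
    rw [Algebra.algebraMap_eq_smul_one, TensorProduct.smul_tmul]
  | add x y hx hy =>
    obtain ⟨a, rfl⟩ := hx
    obtain ⟨b, rfl⟩ := hy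
    exact ⟨a + b, by rw [TensorProduct.tmul_add]⟩

theorem one_tmul_eq_zero {y : S U R} (hy : y ∈ maximalIdeal (S U R)) :
    (1 : (maximalIdeal R).ResidueField) ⊗ₜ[R] y = 0 := by
  obtain ⟨ϖ, hϖ⟩ := IsDiscreteValuationRing.exists_irreducible R
  rw [(prime U hϖ).irreducible.maximalIdeal_eq, Ideal.mem_span_singleton] at hy
  obtain ⟨z, rfl⟩ := hy
  have h1 : (mk U R fun _ => ϖ) * z = ϖ • z := (Algebra.smul_def ϖ z).symm
  rw [h1, ← TensorProduct.smul_tmul, ← Algebra.algebraMap_eq_smul_one,
    Ideal.algebraMap_residueField_eq_zero.mpr ((mem_maximalIdeal _).2 hϖ.not_isUnit), TensorProduct.zero_tmul]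

theorem fibP_injective : Function.Injective (fibP U R) := by
  rw [injective_iff_map_eq_zero]
  intro x hx
  obtain ⟨y, rfl⟩ := exists_one_tmul U R x
  apply one_tmul_eq_zero
  apply toP_eq_zero
  simpa [fibP] using hx

theorem isGeometricallyReduced_fiber :
    Algebra.IsGeometricallyReduced (maximalIdeal R).ResidueField ((maximalIdeal R).Fiber (S U R)) :=
  Algebra.IsGeometricallyReduced.of_injective (fibP U R) (fibP_injective U R)

theorem isField_fiber : IsField ((maximalIdeal R).Fiber (S U R)) := by
  refine ⟨?_, fun x y => mul_comm (G := (maximalIdeal R).ResidueField ⊗[R] S U R) x y, ?_⟩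
  · refine ⟨0, 1, fun h => ?_⟩
    have h1 : fibP U R (1 : (maximalIdeal R).ResidueField ⊗[R] S U R) = 0 := by
      rw [← h]; exact map_zero _
    have h2 : fibP U R (1 : (maximalIdeal R).ResidueField ⊗[R] S U R) =
      Ideal.Quotient.mk (Z U (maximalIdeal R).ResidueField) 1 := (fibP U R).toRingHom.map_one
    rw [h2, Ideal.Quotient.eq_zero_iff_mem, mem_Z] at h1
    obtain ⟨n, hn⟩ := h1.exists
    exact one_ne_zero hn
  · intro x hx
    obtain ⟨y, rfl⟩ := exists_one_tmul U R x
    have hy : y ∉ maximalIdeal (S U R) := fun h => hx (one_tmul_eq_zero U R h)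
    have hu : IsUnit y := by
      by_contra hc
      exact hy ((mem_maximalIdeal _).2 hc)
    obtain ⟨v, rfl⟩ := hu
    exact ⟨(1 : (maximalIdeal R).ResidueField) ⊗ₜ[R] ((v⁻¹ : (S U R)ˣ) : S U R), by
      show _ * _ = (1 : (maximalIdeal R).ResidueField ⊗[R] S U R)
      rw [Algebra.TensorProduct.tmul_mul_tmul, one_mul, Units.mul_inv]; rfl⟩

/-- The ultraproduct ring is regular over an excellent discrete valuation ring. -/
theorem isRegularHom (hR : CAlg.IsGRing R) : CAlg.IsRegularHom R (S U R) := by
  apply Groth.Agent.S9314.result (Groth.Agent.S0600.result R hR _)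
  apply Groth.Agent.S2038.result.mp
  have := isGeometricallyReduced_fiber U R
  exact ⟨inferInstance, Groth.Agent.S17703.isGeometricallyRegular_of_isField _ _ (isField_fiber U R)⟩

end K949.Gre
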