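import Groth.Agent.Neron.K949.GreUltra
import Mathlib.RingTheory.DiscreteValuationRing.Basic
import Mathlib.RingTheory.LocalRing.RingHom.Basic
import Mathlib.RingTheory.Flat.TorsionFree

/-!
# The complete discrete valuation ring attached to an ultrafilter

For a discrete valuation ring `R` and an ultrafilter `U` on `ℕ`, the quotient of `ℕ → R` by the sequences which are
almost everywhere divisible by every power of the uniformizer is a discrete valuation ring, unramified over `R`, whose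
residue field is the ultrapower of the residue field of `R`.
-/

universe u

open Filter IsLocalRing

namespace K949.Gre

variable (U : Ultrafilter ℕ) (R : Type u) [CommRing R] [IsDomain R] [IsDiscreteValuationRing R]

/-- The sequences which are almost everywhere divisible by every power of the uniformizer. -/
def J : Ideal (ℕ → R) where
  carrier := {f | ∀ m : ℕ, ∀ᶠ n in (U : Filter ℕ), f n ∈ maximalIdeal R ^ m}
  add_mem' := by
    intro f g hf hg m
    filter_upwards [hf m, hg m] with n h1 h2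
    exact Ideal.add_mem _ h1 h2
  zero_mem' := by simp
  smul_mem' := by
    intro c f hf m
    filter_upwards [hf m] with n h1
    exact Ideal.mul_mem_left _ _ h1

variable {R}

theorem mem_J {f : ℕ → R} : f ∈ J U R ↔ ∀ m : ℕ, ∀ᶠ n in (U : Filter ℕ), f n ∈ maximalIdeal R ^ m := Iff.rfl

theorem exists_eq {ϖ : R} (hϖ : Irreducible ϖ) {a : R} {m : ℕ} (ha : a ∉ maximalIdeal R ^ m) :
    ∃ i < m, ∃ v : Rˣ, a = v * ϖ ^ i := by
  have h0 : a ≠ 0 := fun h => ha (h ▸ zero_mem _)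
  obtain ⟨i, v, hv⟩ := IsDiscreteValuationRing.eq_unit_mul_pow_irreducible h0 hϖ
  refine ⟨i, ?_, v, hv⟩
  by_contra hi
  apply ha
  rw [hv]
  exact Ideal.mul_mem_left _ _ (Ideal.pow_le_pow_right (not_lt.mp hi)
    (Ideal.pow_mem_pow ((mem_maximalIdeal _).2 hϖ.not_isUnit) _))

theorem mem_pow_iff {ϖ : R} (hϖ : Irreducible ϖ) {a : R} {m : ℕ} :
    a ∈ maximalIdeal R ^ m ↔ ϖ ^ m ∣ a := by
  rw [hϖ.maximalIdeal_eq, Ideal.span_singleton_pow, Ideal.mem_span_singleton]

theorem mul_notMem {a b : R} {m m' : ℕ} (ha : a ∉ maximalIdeal R ^ m) (hb : b ∉ maximalIdeal R ^ m') :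
    a * b ∉ maximalIdeal R ^ (m + m') := by
  obtain ⟨ϖ, hϖ⟩ := IsDiscreteValuationRing.exists_irreducible R
  obtain ⟨i, hi, v, rfl⟩ := exists_eq hϖ ha
  obtain ⟨j, hj, w, rfl⟩ := exists_eq hϖ hb
  rw [mem_pow_iff hϖ]
  intro h
  have h1 : (v : R) * ϖ ^ i * (w * ϖ ^ j) = (v * w : Rˣ) * ϖ ^ (i + j) := by
    rw [pow_add]; push_cast; ring
  rw [h1, Units.dvd_mul_left] at h
  have := (pow_dvd_pow_iff hϖ.ne_zero hϖ.not_isUnit).mp h
  omega

theorem notMem_J {f : ℕ → R} (hf : f ∉ J U R) : ∃ m : ℕ, ∀ᶠ n in (U : Filter ℕ), f n ∉ maximalIdeal R ^ m := by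
  rw [mem_J] at hf
  push Not at hf
  obtain ⟨m, hm⟩ := hf
  exact ⟨m, Ultrafilter.eventually_not.mpr (by simpa using hm)⟩

instance J_isPrime : (J U R).IsPrime := by
  rw [Ideal.isPrime_iff]
  constructor
  · rw [Ideal.ne_top_iff_one, mem_J]
    intro h
    obtain ⟨n, hn⟩ := (h 1).exists
    rw [pow_one] at hn
    exact (Ideal.ne_top_iff_one _).mp (maximalIdeal.isMaximal R).ne_top hn
  · intro a b hab
    by_contra hc
    push Not at hc
    obtain ⟨m, hm⟩ := notMem_J U hc.1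
    obtain ⟨m', hm'⟩ := notMem_J U hc.2
    obtain ⟨n, ⟨h1, h2⟩, h3⟩ := ((hm.and hm').and (hab (m + m'))).exists
    exact mul_notMem h1 h2 h3

variable (R) in
/-- The ultraproduct discrete valuation ring. -/
abbrev S : Type u := (ℕ → R) ⧸ J U R

variable (R) in
/-- The quotient map. -/
abbrev mk : (ℕ → R) →+* S U R := Ideal.Quotient.mk (J U R)

theorem mk_eq_mk {f g : ℕ → R} (h : ∀ᶠ n in (U : Filter ℕ), f n = g n) : mk U R f = mk U R g := by
  rw [Ideal.Quotient.mk_eq_mk_iff_sub_mem, mem_J]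
  intro m
  filter_upwards [h] with n hn
  simp [hn]

theorem isUnit_mk {f : ℕ → R} (h : ∀ᶠ n in (U : Filter ℕ), IsUnit (f n)) : IsUnit (mk U R f) := by
  classical
  refine IsUnit.of_mul_eq_one (mk U R fun n => if h : IsUnit (f n) then ((h.unit⁻¹ : Rˣ) : R) else 0) ?_
  rw [← map_mul, ← map_one (mk U R)]
  apply mk_eq_mk
  filter_upwards [h] with n hn
  simp [hn]

theorem dvd_iff {ϖ : R} (hϖ : Irreducible ϖ) (m : ℕ) {f : ℕ → R} :
    mk U R (fun _ => ϖ) ^ m ∣ mk U R f ↔ ∀ᶠ n in (U : Filter ℕ), f n ∈ maximalIdeal R ^ m := by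
  constructor
  · rintro ⟨x, hx⟩
    obtain ⟨g, rfl⟩ := Ideal.Quotient.mk_surjective x
    rw [← map_pow, ← map_mul, Ideal.Quotient.mk_eq_mk_iff_sub_mem, mem_J] at hx
    filter_upwards [hx m] with n hn
    have h1 : ϖ ^ m * g n ∈ maximalIdeal R ^ m :=
      Ideal.mul_mem_right _ _ (Ideal.pow_mem_pow ((mem_maximalIdeal _).2 hϖ.not_isUnit) _)
    have h2 := Ideal.add_mem _ hn h1
    simpa using h2
  · intro h
    have h1 : ∀ n, ∃ c : R, f n ∈ maximalIdeal R ^ m → f n = ϖ ^ m * c := by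
      intro n
      by_cases hn : f n ∈ maximalIdeal R ^ m
      · obtain ⟨c, hc⟩ := (mem_pow_iff hϖ).mp hn
        exact ⟨c, fun _ => hc⟩
      · exact ⟨0, fun h => absurd h hn⟩
    choose c hc using h1
    refine ⟨mk U R c, ?_⟩
    rw [← map_pow, ← map_mul]
    apply mk_eq_mk
    filter_upwards [h] with n hn
    exact hc n hn

theorem not_isUnit {ϖ : R} (hϖ : Irreducible ϖ) : ¬ IsUnit (mk U R fun _ => ϖ) := by
  intro h
  have h1 := (dvd_iff U hϖ 1 (f := 1)).mp (by rw [pow_one]; exact h.dvd)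
  obtain ⟨n, hn⟩ := h1.exists
  rw [pow_one] at hn
  exact (Ideal.ne_top_iff_one _).mp (maximalIdeal.isMaximal R).ne_top hn

theorem ne_zero {ϖ : R} (hϖ : Irreducible ϖ) : (mk U R fun _ => ϖ) ≠ 0 := by
  intro h
  rw [Ideal.Quotient.eq_zero_iff_mem, mem_J] at h
  obtain ⟨n, hn⟩ := (h 2).exists
  rw [mem_pow_iff hϖ] at hn
  have := (pow_dvd_pow_iff hϖ.ne_zero hϖ.not_isUnit).mp (by simpa using hn : ϖ ^ 2 ∣ ϖ ^ 1)
  omega

theorem prime {ϖ : R} (hϖ : Irreducible ϖ) : Prime (mk U R fun _ => ϖ) := by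
  refine ⟨ne_zero U hϖ, not_isUnit U hϖ, ?_⟩
  intro a b hab
  obtain ⟨f, rfl⟩ := Ideal.Quotient.mk_surjective a
  obtain ⟨g, rfl⟩ := Ideal.Quotient.mk_surjective b
  rw [← map_mul, ← pow_one (mk U R fun _ => ϖ), dvd_iff U hϖ] at hab
  rw [← pow_one (mk U R fun _ => ϖ), dvd_iff U hϖ, dvd_iff U hϖ, ← Ultrafilter.eventually_or]
  filter_upwards [hab] with n hn
  rw [pow_one] at hn ⊢
  exact (maximalIdeal.isMaximal R).isPrime.mem_or_mem hn

theorem exists_associated {ϖ : R} (hϖ : Irreducible ϖ) {x : S U R} (hx : x ≠ 0) :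
    ∃ m : ℕ, Associated (mk U R (fun _ => ϖ) ^ m) x := by
  obtain ⟨f, rfl⟩ := Ideal.Quotient.mk_surjective x
  rw [Ne, Ideal.Quotient.eq_zero_iff_mem] at hx
  have hex := notMem_J U hx
  classical
  let m := Nat.find hex
  have hm : ∀ᶠ n in (U : Filter ℕ), f n ∉ maximalIdeal R ^ m := Nat.find_spec hex
  have hm0 : m ≠ 0 := by
    intro h
    rw [h] at hm
    obtain ⟨n, hn⟩ := hm.exists
    exact hn (by simp)
  obtain ⟨i, hi⟩ := Nat.exists_eq_succ_of_ne_zero hm0
  have hi' : ¬ ∀ᶠ n in (U : Filter ℕ), f n ∉ maximalIdeal R ^ i := Nat.find_min hex (by omega)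
  have hi2 : ∀ᶠ n in (U : Filter ℕ), f n ∈ maximalIdeal R ^ i := by
    rw [Ultrafilter.eventually_not, not_not] at hi'
    exact hi'
  obtain ⟨y, hy⟩ := (dvd_iff U hϖ i).mpr hi2
  refine ⟨i, ?_⟩
  obtain ⟨g, rfl⟩ := Ideal.Quotient.mk_surjective y
  have hg : IsUnit (mk U R g) := by
    apply isUnit_mk
    by_contra hc
    rw [← Ultrafilter.eventually_not] at hc
    have h1 : mk U R (fun _ => ϖ) ^ 1 ∣ mk U R g := by
      rw [dvd_iff U hϖ]
      filter_upwards [hc] with n hn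
      rw [pow_one]
      exact (mem_maximalIdeal _).2 hn
    have h2 : mk U R (fun _ => ϖ) ^ m ∣ mk U R f := by
      rw [hi, Nat.succ_eq_add_one, pow_add]
      erw [hy]
      exact mul_dvd_mul_left _ h1
    obtain ⟨n, h3, h4⟩ := (((dvd_iff U hϖ m).mp h2).and hm).exists
    exact h4 h3
  obtain ⟨v, hv⟩ := hg
  exact ⟨v, by rw [hv]; exact hy.symm⟩

instance isDVR : IsDiscreteValuationRing (S U R) := by
  obtain ⟨ϖ, hϖ⟩ := IsDiscreteValuationRing.exists_irreducible R
  exact IsDiscreteValuationRing.ofHasUnitMulPowIrreducibleFactorization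
    ⟨mk U R fun _ => ϖ, (prime U hϖ).irreducible, fun hx => exists_associated U hϖ hx⟩

theorem algebraMap_eq (a : R) : algebraMap R (S U R) a = mk U R fun _ => a := rfl

theorem mem_maximalIdeal_iff {f : ℕ → R} :
    mk U R f ∈ maximalIdeal (S U R) ↔ ∀ᶠ n in (U : Filter ℕ), f n ∈ maximalIdeal R := by
  obtain ⟨ϖ, hϖ⟩ := IsDiscreteValuationRing.exists_irreducible R
  rw [(prime U hϖ).irreducible.maximalIdeal_eq, Ideal.mem_span_singleton]
  have := dvd_iff U hϖ 1 (f := f)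
  simpa only [pow_one] using this

instance isLocalHom : IsLocalHom (algebraMap R (S U R)) := by
  refine ⟨fun a ha => ?_⟩
  by_contra hc
  rw [algebraMap_eq] at ha
  have h1 : mk U R (fun _ => a) ∈ maximalIdeal (S U R) := by
    rw [mem_maximalIdeal_iff]
    exact Eventually.of_forall fun _ => (mem_maximalIdeal _).2 hc
  exact (mem_maximalIdeal _).1 h1 ha

theorem algebraMap_injective : Function.Injective (algebraMap R (S U R)) := by
  rw [injective_iff_map_eq_zero]
  intro a ha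
  rw [algebraMap_eq, Ideal.Quotient.eq_zero_iff_mem, mem_J] at ha
  by_contra h0
  obtain ⟨ϖ, hϖ⟩ := IsDiscreteValuationRing.exists_irreducible R
  obtain ⟨i, v, hv⟩ := IsDiscreteValuationRing.eq_unit_mul_pow_irreducible h0 hϖ
  obtain ⟨n, hn⟩ := (ha (i + 1)).exists
  rw [mem_pow_iff hϖ, hv, Units.dvd_mul_left, pow_dvd_pow_iff hϖ.ne_zero hϖ.not_isUnit] at hn
  omega

instance isTorsionFree : Module.IsTorsionFree R (S U R) :=
  Module.isTorsionFree_iff_algebraMap_injective.mpr (algebraMap_injective U)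

instance flat : Module.Flat R (S U R) := inferInstance

end K949.Gre
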