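import Mathlib.Order.Filter.Ultrafilter.Basic
import Mathlib.Order.Filter.Cofinite
import Mathlib.RingTheory.Nilpotent.GeometricallyReduced
import Mathlib.LinearAlgebra.Dimension.Free
import Mathlib.RingTheory.TensorProduct.Basic
import Mathlib.LinearAlgebra.TensorProduct.Basis
import Groth.Agent.S2654

/-!
# Ultrapowers of a field are geometrically reduced over it
-/

universe u

open Filter TensorProduct

namespace K949.Gre

variable (U : Ultrafilter ℕ)

section Power

variable (A : Type u) [CommRing A]

/-- The ideal of sequences which vanish almost everywhere. -/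
def Z : Ideal (ℕ → A) where
  carrier := {f | ∀ᶠ n in (U : Filter ℕ), f n = 0}
  add_mem' := by
    intro f g hf hg
    filter_upwards [hf, hg] with n h1 h2
    simp [h1, h2]
  zero_mem' := by simp
  smul_mem' := by
    intro c f hf
    filter_upwards [hf] with n h1
    simp [h1]

theorem mem_Z {f : ℕ → A} : f ∈ Z U A ↔ ∀ᶠ n in (U : Filter ℕ), f n = 0 := Iff.rfl

/-- The ultrapower. -/
abbrev P : Type u := (ℕ → A) ⧸ Z U A

instance isReduced_P [IsReduced A] : IsReduced (P U A) := by
  refine ⟨fun x ⟨n, hn⟩ => ?_⟩
  obtain ⟨f, rfl⟩ := Ideal.Quotient.mk_surjective x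
  rw [← map_pow, Ideal.Quotient.eq_zero_iff_mem, mem_Z] at hn
  rw [Ideal.Quotient.eq_zero_iff_mem, mem_Z]
  filter_upwards [hn] with m hm
  exact IsReduced.eq_zero (f m) ⟨n, by simpa using hm⟩

variable {A} {B : Type u} [CommRing B]

/-- Functoriality of the ultrapower. -/
def mapP (k : Type u) [CommRing k] [Algebra k A] [Algebra k B] (φ : A →ₐ[k] B) : P U A →ₐ[k] P U B :=
  Ideal.quotientMapₐ (Z U B) (AlgHom.pi (R := k) (A := fun _ : ℕ => B) (fun n => φ.comp (Pi.evalAlgHom k (fun _ : ℕ => A) n)))
    (by
      intro f hf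
      rw [mem_Z] at hf
      show ∀ᶠ n in (U : Filter ℕ), φ (f n) = 0
      filter_upwards [hf] with n hn
      rw [hn, map_zero])

theorem mapP_mk (k : Type u) [CommRing k] [Algebra k A] [Algebra k B] (φ : A →ₐ[k] B) (f : ℕ → A) :
    mapP U k φ (Ideal.Quotient.mk _ f) = Ideal.Quotient.mk _ (fun n => φ (f n)) := rfl

end Power

theorem isReduced_tensor (k k' : Type u) [Field k] [Field k'] [Algebra k k'] [Module.Finite k k'] :
    IsReduced (k' ⊗[k] P U k) := by
  let θ : k' ⊗[k] P U k →ₐ[k] P U k' :=
    Algebra.TensorProduct.lift (IsScalarTower.toAlgHom k k' (P U k')) (mapP U k (Algebra.ofId k k'))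
      (fun _ _ => Commute.all _ _)
  have hθ : Function.Injective θ := by
    rw [injective_iff_map_eq_zero]
    intro x hx
    let b := Module.finBasis k k'
    obtain ⟨c, rfl⟩ := TensorProduct.eq_repr_basis_left b x
    choose f hf using fun i => Ideal.Quotient.mk_surjective (I := Z U k) (c i)
    have key : ∀ i, c i = 0 := by
      have h1 : θ (c.sum fun i n => b i ⊗ₜ[k] n) =
          Ideal.Quotient.mk (Z U k') (fun n => ∑ i, b i * algebraMap k k' (f i n)) := by
        rw [Finsupp.sum_fintype _ _ (by simp), map_sum]
        have : (fun n => ∑ i, b i * algebraMap k k' (f i n)) =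
            ∑ i, ((fun _ => b i : ℕ → k') * fun n => algebraMap k k' (f i n)) := by
          ext n
          simp [Finset.sum_apply]
        rw [this, map_sum]
        refine Finset.sum_congr rfl fun i _ => ?_
        rw [Algebra.TensorProduct.lift_tmul, ← hf i, mapP_mk, map_mul]
        rfl
      rw [h1, Ideal.Quotient.eq_zero_iff_mem, mem_Z] at hx
      intro i
      rw [← hf i, Ideal.Quotient.eq_zero_iff_mem, mem_Z]
      filter_upwards [hx] with n hn
      have h2 := (Fintype.linearIndependent_iff.mp b.linearIndependent) (fun i => f i n)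
        (by rw [← hn]; refine Finset.sum_congr rfl fun i _ => ?_; rw [Algebra.smul_def, mul_comm])
      exact h2 i
    have : c = 0 := Finsupp.ext key
    rw [this]
    simp
  exact isReduced_of_injective θ.toRingHom hθ

instance geomRed (k : Type u) [Field k] : Algebra.IsGeometricallyReduced k (P U k) :=
  Groth.Agent.S2654.isGeometricallyReduced_of_forall_finite k (P U k)
    (fun k' _ _ _ => isReduced_tensor U k k')

end K949.Gre
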